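import Mathlib.AlgebraicGeometry.Morphisms.FlatDescent
import Mathlib.AlgebraicGeometry.Morphisms.Flat
/-!
# Affine morphisms descend along faithfully flat quasi-compact morphisms
-/

set_option autoImplicit false
universe u

open CategoryTheory CategoryTheory.Limits AlgebraicGeometry

namespace Groth.Agent.Lib.Tori.AffineDescent

variable {Y Y' B T : Scheme.{u}} {p : Y' ⟶ Y} {q : Y' ⟶ T} {g : Y ⟶ B} {f : T ⟶ B}

set_option backward.isDefEq.respectTransparency false in
theorem isAffine_of_isPullback (H : IsPullback p q g f) [IsAffine B] [IsAffine T] [IsAffine Y']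
    [Flat f] [Surjective f] : IsAffine Y := by
  have hpa : IsAffineHom p :=
    MorphismProperty.of_isPullback (P := @IsAffineHom) H.flip (isAffineHom_of_isAffine f)
  have hps : Surjective p := MorphismProperty.of_isPullback (P := @Surjective) H.flip inferInstance
  have hc : CompactSpace Y := ⟨by
    rw [← p.surjective.range_eq]; exact isCompact_range p.continuous⟩
  have hqs : IsQuasiSeparated (α := Y) Set.univ := by
    intro U V _ hU hUc _ hV hVc
    rw [← Set.image_preimage_eq (U ∩ V) p.surjective]
    refine IsCompact.image ?_ p.continuous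
    rw [Set.preimage_inter]
    exact (isQuasiSeparated_univ (α := Y')) _ _ (Set.subset_univ _) (hU.preimage p.continuous)
      (QuasiCompact.isCompact_preimage U hU hUc) (Set.subset_univ _) (hV.preimage p.continuous)
      (QuasiCompact.isCompact_preimage V hV hVc)
  have hiso := isIso_pushoutSection_of_isQuasiSeparated_of_flat_right (US := ⊤) (UT := ⊤) (UX := ⊤)
    (UY := ⊤) H (by simp) (by simp) (by simp) (isAffineOpen_top B) (isAffineOpen_top T)
    (by simpa using CompactSpace.isCompact_univ) hqs
  rw [isIso_pushoutSection_iff] at hiso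
  have hsq : IsPullback (Spec.map p.appTop) (Spec.map q.appTop) (Spec.map g.appTop)
      (Spec.map f.appTop) := by
    refine isPullback_SpecMap_of_isPushout _ _ _ _ ?_
    simpa [Scheme.Hom.appTop, Scheme.Hom.app_eq_appLE] using hiso
  have htot : IsPullback p (Y'.toSpecΓ ≫ Spec.map q.appTop) (Y.toSpecΓ ≫ Spec.map g.appTop)
      (Spec.map f.appTop) := by
    rw [← Scheme.toSpecΓ_naturality, ← Scheme.toSpecΓ_naturality]
    exact H.of_iso (Iso.refl _) (Iso.refl _) (asIso T.toSpecΓ) (asIso B.toSpecΓ) (by simp) (by simp)
      (by simp) (by simp [Scheme.toSpecΓ_naturality])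
  have htop : IsPullback p Y'.toSpecΓ Y.toSpecΓ (Spec.map p.appTop) :=
    IsPullback.of_bot htot (Scheme.toSpecΓ_naturality p) hsq
  have hf' : (@Surjective ⊓ @Flat ⊓ @QuasiCompact : MorphismProperty Scheme.{u}) (Spec.map p.appTop) := by
    have e : Spec.map f.appTop = (T.isoSpec.inv ≫ f) ≫ B.isoSpec.hom := by
      rw [← Scheme.isoSpec_inv_naturality, Category.assoc, Iso.inv_hom_id, Category.comp_id]
    refine MorphismProperty.of_isPullback hsq.flip ?_
    rw [e]
    exact ⟨⟨inferInstance, inferInstance⟩, inferInstance⟩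
  exact ⟨MorphismProperty.of_isPullback_of_descendsAlong
    (P := MorphismProperty.isomorphisms Scheme.{u}) htop.flip hf' (inferInstanceAs (IsIso Y'.toSpecΓ))⟩

set_option backward.isDefEq.respectTransparency false in
/-- Being affine satisfies fpqc descent. -/
theorem descendsAlong_isAffineHom :
    MorphismProperty.DescendsAlong (@IsAffineHom.{u}) (@Surjective ⊓ @Flat ⊓ @QuasiCompact) := by
  apply IsZariskiLocalAtTarget.descendsAlong_inf_quasiCompact
  · rw [inf_comm]
    exact inf_le_inf le_rfl (IsLocalIso.le_of_isZariskiLocalAtSource _)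
  intro R S Y φ g ⟨hs, hf⟩ h
  have : IsAffineHom (pullback.fst (Spec.map φ) g) := h
  have : IsAffine (pullback (Spec.map φ) g) := isAffine_of_isAffineHom (pullback.fst (Spec.map φ) g)
  have : IsAffine Y := isAffine_of_isPullback (IsPullback.of_hasPullback (Spec.map φ) g).flip
  exact isAffineHom_of_isAffine g

end Groth.Agent.Lib.Tori.AffineDescent
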