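import Groth.Agent.Lib.Tori.DS
import Groth.Agent.Lib.Tori.AffineDescent
import Mathlib.AlgebraicGeometry.Cover.QuasiCompact
import Mathlib.AlgebraicGeometry.Morphisms.FlatDescent
import Mathlib.AlgebraicGeometry.Morphisms.LocalFlatDescent
/-!
# Basic properties of tori (`Red.IsTorus`)
-/

set_option autoImplicit false
universe u

open CategoryTheory MonoidalCategory CartesianMonoidalCategory MonObj GrpObj AlgebraicGeometry
open Groth.Agent.Lib.RedPts Groth.Agent.Lib.Tori.BaseChange Groth.Agent.Lib.Tori.DS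

namespace Groth.Agent.Lib.Tori.Basic

variable {S S' : Scheme.{u}}

/-- The covering condition in `Red.IsTorus`. -/
abbrev IsQCCover (f : S' ⟶ S) : Prop :=
  ∀ V : S.Opens, IsAffineOpen V → ∃ W : S'.Opens, IsCompact (W : Set S') ∧ f.base '' (W : Set S') = (V : Set S)

theorem isQCCover_iff (f : S' ⟶ S) :
    IsQCCover f ↔ QuasiCompactCover (PreZeroHypercover.singleton.{u} f) := by
  rw [quasiCompactCover_iff]
  simp_rw [IsCompactOpenCovered.iff_of_unique]
  rfl

theorem isQCCover_pullback_snd {f : S' ⟶ S} (hf : IsQCCover f) {T : Scheme.{u}} (g : T ⟶ S) :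
    IsQCCover (Limits.pullback.fst g f) := by
  have := (isQCCover_iff f).1 hf
  intro V hV
  have h := hV.isCompactOpenCovered ((PreZeroHypercover.singleton.{u} f).pullback₁ g)
  haveI : Unique ((PreZeroHypercover.singleton.{u} f).pullback₁ g).I₀ := inferInstanceAs (Unique PUnit)
  rw [IsCompactOpenCovered.iff_of_unique] at h
  exact h

theorem isQCCover_of_qc (f : S' ⟶ S) [QuasiCompact f] [Surjective f] : IsQCCover f :=
  (isQCCover_iff f).2 inferInstance

theorem isSplit_bc {M : Type} [AddCommGroup M] {T : Over S} [GrpObj T]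
    (h : Red.IsSplitTorusWith M T) (g : S' ⟶ S) : Red.IsSplitTorusWith M (Red.bc g T) :=
  h.elim fun e => ⟨bcMapIso g e ≪≫ dsBC M g⟩

theorem isSplit_DS (S : Scheme.{u}) (M : Type) [AddCommGroup M] :
    Red.IsSplitTorusWith M (Red.DS S M) := ⟨Iso.refl _⟩

theorem isSplit_congr {M : Type} [AddCommGroup M] {T T' : Over S} [GrpObj T] [GrpObj T']
    (e : Grp.mk T ≅ Grp.mk T') (h : Red.IsSplitTorusWith M T') : Red.IsSplitTorusWith M T :=
  h.elim fun e' => ⟨e ≪≫ e'⟩

theorem isTorus_congr {T T' : Over S} [GrpObj T] [GrpObj T'] (e : Grp.mk T ≅ Grp.mk T')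
    (h : Red.IsTorus T') : Red.IsTorus T := by
  obtain ⟨S', f, hf, hs, hc, hloc⟩ := h
  refine ⟨S', f, hf, hs, hc, fun s' => ?_⟩
  obtain ⟨U, hU, r, hr⟩ := hloc s'
  exact ⟨U, hU, r, isSplit_congr (bcMapIso _ e) hr⟩

theorem isTorus_bc {T : Over S} [GrpObj T] (h : Red.IsTorus T) {X : Scheme.{u}} (g : X ⟶ S) :
    Red.IsTorus (Red.bc g T) := by
  obtain ⟨S', f, hf, hs, hc, hloc⟩ := h
  refine ⟨Limits.pullback g f, Limits.pullback.fst g f, inferInstance, inferInstance,
    isQCCover_pullback_snd hc g, fun p => ?_⟩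
  obtain ⟨U, hU, r, hr⟩ := hloc ((Limits.pullback.snd g f).base p)
  refine ⟨(Limits.pullback.snd g f) ⁻¹ᵁ U, hU, r, ?_⟩
  refine isSplit_congr ?_ (isSplit_bc hr ((Limits.pullback.snd g f) ∣_ U))
  exact (bcComp _ g T).symm ≪≫ bcCongr (by
    rw [Category.assoc, Limits.pullback.condition, morphismRestrict_ι_assoc]) T ≪≫ bcComp _ _ T

theorem isTorus_of_isSplit {M : Type} [AddCommGroup M] [Module.Free ℤ M] [Module.Finite ℤ M]
    {T : Over S} [GrpObj T] (h : Red.IsSplitTorusWith M T) : Red.IsTorus T := by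
  refine ⟨S, 𝟙 S, inferInstance, ⟨fun x => ⟨x, rfl⟩⟩, fun V hV => ⟨V, hV.isCompact, by simp⟩,
    fun s => ⟨⊤, trivial, Module.finrank ℤ M, ?_⟩⟩
  obtain ⟨e⟩ := isSplit_bc h ((⊤ : S.Opens).ι ≫ 𝟙 S)
  exact ⟨e ≪≫ dsIso _ (Module.finBasis ℤ M).equivFun.toAddEquiv.symm⟩

theorem isTorus_DS (S : Scheme.{u}) (M : Type) [AddCommGroup M] [Module.Free ℤ M]
    [Module.Finite ℤ M] : Red.IsTorus (Red.DS S M) :=
  isTorus_of_isSplit (isSplit_DS S M)

theorem isTorus_Gm (S : Scheme.{u}) : Red.IsTorus (Red.Gm S) := isTorus_DS S ℤ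

/-- A property of morphisms which is local on the target, descends along faithfully flat
quasi-compact morphisms and holds for split tori holds for every torus. -/
theorem prop_of_isTorus (P : MorphismProperty Scheme.{u}) [IsZariskiLocalAtTarget P]
    [P.IsStableUnderBaseChange] [P.DescendsAlong (@Surjective ⊓ @Flat ⊓ @QuasiCompact)]
    (hP : ∀ (X : Scheme.{u}) (r : ℕ), P (Red.DS X (Fin r → ℤ)).hom)
    {T : Over S} [GrpObj T] (h : Red.IsTorus T) : P T.hom := by
  obtain ⟨S', f, hf, hs, hc, hloc⟩ := h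
  choose U hU r hr using hloc
  have hUS : TopologicalSpace.IsOpenCover U :=
    TopologicalSpace.Opens.ext (Set.eq_univ_of_forall fun x => by
      simp only [TopologicalSpace.Opens.coe_iSup, Set.mem_iUnion]; exact ⟨x, hU x⟩)
  have h' : P (Limits.pullback.snd T.hom f) := by
    refine IsZariskiLocalAtTarget.of_openCover (𝒰 := S'.openCoverOfIsOpenCover U hUS) fun x => ?_
    change P (Red.bc (U x).ι (Red.bc f T)).hom
    obtain ⟨e⟩ := hr x
    have : IsIso (overIso ((bcComp (U x).ι f T).symm ≪≫ e)).hom.left :=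
      inferInstanceAs (IsIso ((Over.forget _).map (overIso ((bcComp (U x).ι f T).symm ≪≫ e)).hom))
    rw [← Over.w (overIso ((bcComp (U x).ι f T).symm ≪≫ e)).hom]
    exact (P.cancel_left_of_respectsIso _ _).2 (hP _ _)
  refine IsZariskiLocalAtTarget.of_openCover
    (𝒰 := S.openCoverOfIsOpenCover (fun V : S.affineOpens => V.1) (iSup_affineOpens_eq_top S)) ?_
  intro (V : S.affineOpens)
  obtain ⟨W, hW, hWV⟩ := hc V.1 V.2
  have hle : W ≤ f ⁻¹ᵁ V.1 := fun w hw => show f.base w ∈ (V.1 : Set S) from hWV ▸ ⟨w, hw, rfl⟩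
  let q : (W : Scheme.{u}) ⟶ V.1 := f.resLE V.1 W hle
  have hqs : Surjective q := ⟨fun v => by
    obtain ⟨w, hw, hwv⟩ := (Set.ext_iff.1 hWV v.1).2 v.2
    refine ⟨⟨w, hw⟩, Subtype.ext ?_⟩
    simpa [q] using hwv⟩
  have hqc : QuasiCompact q := by
    have : CompactSpace (W : Scheme.{u}) := isCompact_iff_compactSpace.1 hW
    have : IsAffine (V.1 : Scheme.{u}) := V.2
    exact (quasiCompact_iff_compactSpace q).2 inferInstance
  change P (Limits.pullback.snd T.hom V.1.ι)
  refine MorphismProperty.of_pullback_snd_of_descendsAlong (P := P)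
    (Q := @Surjective ⊓ @Flat ⊓ @QuasiCompact) (g := q) ⟨⟨hqs, inferInstance⟩, hqc⟩ ?_
  rw [← Limits.pullbackLeftPullbackSndIso_hom_snd]
  refine (P.cancel_left_of_respectsIso _ _).2 ?_
  have h3 : P (Limits.pullback.snd (Limits.pullback.snd T.hom f) W.ι) :=
    MorphismProperty.of_isPullback (IsPullback.of_hasPullback _ _) h'
  have key : ∀ g : (W : Scheme.{u}) ⟶ S, g = W.ι ≫ f → P (Limits.pullback.snd T.hom g) := by
    rintro _ rfl
    rw [← Limits.pullbackLeftPullbackSndIso_inv_snd_snd T.hom f W.ι]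
    exact (P.cancel_left_of_respectsIso _ _).2 h3
  exact key _ (Scheme.Hom.resLE_comp_ι _ _)

variable {T : Over S} [GrpObj T]

set_option backward.isDefEq.respectTransparency false in
theorem isAffineHom_of_isTorus (h : Red.IsTorus T) : IsAffineHom T.hom :=
  have := AffineDescent.descendsAlong_isAffineHom.{u}
  prop_of_isTorus @IsAffineHom (fun X _ => isAffineHom X _) h

set_option backward.isDefEq.respectTransparency false in
theorem smooth_of_isTorus (h : Red.IsTorus T) : Smooth T.hom :=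
  prop_of_isTorus @Smooth (fun X _ => smooth X _) h

theorem flat_of_isTorus (h : Red.IsTorus T) : Flat T.hom :=
  have := smooth_of_isTorus h
  inferInstance

theorem surjective_of_isTorus (_h : Red.IsTorus T) : Surjective T.hom := surjective_hom S T

end Groth.Agent.Lib.Tori.Basic
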