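import Groth.Agent.Lib.Tori.Basic
import Groth.Agent.H87.LocalEq

/-!
# Tori are commutative
-/

set_option autoImplicit false
universe u

open CategoryTheory MonoidalCategory CartesianMonoidalCategory MonObj GrpObj AlgebraicGeometry
open Groth.Agent.Lib.RedPts Groth.Agent.Lib.Tori.BaseChange

namespace Groth.Agent.Lib.Tori.Comm

theorem mul_comm_DS {S : Scheme.{u}} {M : Type} [AddCommGroup M] {X : Over S}
    (a b : X ⟶ Red.DS S M) : a * b = b * a :=
  Gm.dsFn_ext fun m => by rw [Gm.dsFn_mul, Gm.dsFn_mul, mul_comm]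

/-- Tori are commutative. -/
theorem mul_comm_of_isTorus {S : Scheme.{u}} {T : Over S} [GrpObj T] (hT : Red.IsTorus T)
    {X : Over S} (a b : X ⟶ T) : a * b = b * a := by
  suffices h : fst T T * snd T T = snd T T * fst T T by
    have := congrArg (fun m => lift a b ≫ m) h
    simpa [MonObj.comp_mul] using this
  obtain ⟨S', f, hf, hs, -, hloc⟩ := hT
  choose U hU r hr using hloc
  refine H87.LocalEq.ext_of_local f _ _ U hU fun s' => ?_
  obtain ⟨e⟩ := hr s'
  generalize BC.down ((U s').ι ≫ f) (𝟙 (Red.bc ((U s').ι ≫ f) (T ⊗ T))) = d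
  rw [MonObj.comp_mul, MonObj.comp_mul]
  generalize d ≫ fst T T = p
  generalize d ≫ snd T T = q
  have h2 : BC.up ((U s').ι ≫ f) p * BC.up ((U s').ι ≫ f) q =
      BC.up ((U s').ι ≫ f) q * BC.up ((U s').ι ≫ f) p := by
    have : IsMonHom (overIso e).hom := e.hom.hom.isMonHom_hom
    rw [← cancel_mono (overIso e).hom]
    refine (MonObj.mul_comp _ _ _).trans (Eq.trans ?_ (MonObj.mul_comp _ _ _).symm)
    exact mul_comm_DS _ _
  have := congrArg (BC.down ((U s').ι ≫ f)) h2
  rwa [BC.down_mul, BC.down_mul, BC.down_up, BC.down_up] at this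

end Groth.Agent.Lib.Tori.Comm
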