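import Groth.Prelude.Def_Red
/-!
# Coherence isomorphisms for `Red.bc` as isomorphisms of group schemes
-/

set_option autoImplicit false
universe u

open CategoryTheory MonoidalCategory CartesianMonoidalCategory MonObj GrpObj AlgebraicGeometry
open CategoryTheory.Functor

namespace Groth.Agent.Lib.Tori.BaseChange

variable {S S' S'' : Scheme.{u}}

/-- `X_{S''} ≅ (X_{S'})_{S''}`. -/
noncomputable def bcComp (g : S'' ⟶ S') (f : S' ⟶ S) (X : Over S) [GrpObj X] :
    Grp.mk (Red.bc (g ≫ f) X) ≅ Grp.mk (Red.bc g (Red.bc f X)) :=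
  (mapGrpNatIso (Over.pullbackComp g f)).app (Grp.mk X) ≪≫ mapGrpCompIso.app (Grp.mk X)

/-- Base change along the identity. -/
noncomputable def bcId (X : Over S) [GrpObj X] : Grp.mk (Red.bc (𝟙 S) X) ≅ Grp.mk X :=
  (mapGrpNatIso (Over.pullbackId (X := S))).app (Grp.mk X)

/-- Base change along equal morphisms. -/
noncomputable def bcCongr {f f' : S' ⟶ S} (h : f = f') (X : Over S) [GrpObj X] :
    Grp.mk (Red.bc f X) ≅ Grp.mk (Red.bc f' X) :=
  eqToIso (by subst h; rfl)

/-- Base change of an isomorphism of group schemes. -/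
noncomputable def bcMapIso (f : S' ⟶ S) {X Y : Over S} [GrpObj X] [GrpObj Y]
    (e : Grp.mk X ≅ Grp.mk Y) : Grp.mk (Red.bc f X) ≅ Grp.mk (Red.bc f Y) :=
  (Over.pullback f).mapGrp.mapIso e

/-- The underlying isomorphism of an isomorphism of group schemes. -/
noncomputable def overIso {X Y : Over S} [GrpObj X] [GrpObj Y] (e : Grp.mk X ≅ Grp.mk Y) : X ≅ Y :=
  (Grp.forget (Over S)).mapIso e

theorem overIso_hom {X Y : Over S} [GrpObj X] [GrpObj Y] (e : Grp.mk X ≅ Grp.mk Y) :
    (overIso e).hom = e.hom.hom.hom := rfl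

instance isMonHom_overIso {X Y : Over S} [GrpObj X] [GrpObj Y] (e : Grp.mk X ≅ Grp.mk Y) :
    IsMonHom (overIso e).hom := e.hom.hom.isMonHom_hom

theorem isIso_hom {X Y : Over S} [GrpObj X] [GrpObj Y] (e : Grp.mk X ≅ Grp.mk Y) :
    IsIso e.hom.hom.hom := overIso_hom e ▸ inferInstance

/-- An isomorphism of `S`-schemes which is a homomorphism is an isomorphism of groups. -/
noncomputable def grpIso {X Y : Over S} [GrpObj X] [GrpObj Y] (e : X ≅ Y) [IsMonHom e.hom] :
    Grp.mk X ≅ Grp.mk Y := Grp.mkIso' e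

end Groth.Agent.Lib.Tori.BaseChange
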