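import Groth.Agent.Lib.Tori.BaseChange
import Groth.Agent.Lib.RedPts.Gm
import Mathlib.RingTheory.Smooth.Basic
import Mathlib.AlgebraicGeometry.Morphisms.Descent
/-!
# Basic properties of `Red.DS S M` and `Red.diag R M`
-/

set_option autoImplicit false
universe u

open CategoryTheory MonoidalCategory CartesianMonoidalCategory MonObj GrpObj AlgebraicGeometry
open Groth.Agent.Lib.RedPts Groth.Agent.Lib.Tori.BaseChange

namespace Groth.Agent.Lib.Tori.DS

variable {S S' : Scheme.{u}} (M N : Type) [AddCommGroup M] [AddCommGroup N]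

/-- `D_S(M)` commutes with base change. -/
noncomputable def dsBC (g : S' ⟶ S) : Grp.mk (Red.bc g (Red.DS S M)) ≅ Grp.mk (Red.DS S' M) :=
  (bcComp g _ _).symm ≪≫ bcCongr (Limits.IsTerminal.hom_ext specULiftZIsTerminal _ _) _

variable {M N}

theorem dsFn_DSmap_self (φ : M →+ N) (m : M) :
    Gm.dsFn (Red.DSmap S φ) m = Gm.dsFn (𝟙 (Red.DS S N)) (φ m) := by
  conv_lhs => rw [← Category.id_comp (Red.DSmap S φ)]
  rw [Gm.dsFn_DSmap]

/-- `D_S(φ)` of an isomorphism, as an isomorphism of `S`-schemes. -/
noncomputable def dsOverIso (S : Scheme.{u}) (e : M ≃+ N) : Red.DS S N ≅ Red.DS S M where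
  hom := Red.DSmap S e.toAddMonoidHom
  inv := Red.DSmap S e.symm.toAddMonoidHom
  hom_inv_id := Gm.dsFn_ext fun m => by simp [Gm.dsFn_DSmap, dsFn_DSmap_self]
  inv_hom_id := Gm.dsFn_ext fun m => by simp [Gm.dsFn_DSmap, dsFn_DSmap_self]

/-- `D_S(φ)` of an isomorphism, as an isomorphism of groups. -/
noncomputable def dsIso (S : Scheme.{u}) (e : M ≃+ N) : Grp.mk (Red.DS S N) ≅ Grp.mk (Red.DS S M) :=
  haveI : IsMonHom (dsOverIso S e).hom := Gm.isMonHom_DSmap _
  grpIso (dsOverIso S e)

theorem isAffineHom_diag (R : Type u) [CommRing R] : IsAffineHom (Red.diag R M).hom :=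
  inferInstanceAs (IsAffineHom (Spec.map (CommRingCat.ofHom
    (algebraMap R (MonoidAlgebra R (Multiplicative M))))))

theorem formallySmooth (R : Type u) [CommRing R] [Module.Free ℤ M] :
    Algebra.FormallySmooth R (MonoidAlgebra R (Multiplicative M)) := by
  rw [Algebra.FormallySmooth.iff_comp_surjective]
  intro A _ _ I hI φ
  let b := Module.Free.chooseBasis ℤ M
  have hu : ∀ i, ∃ u : Aˣ, Ideal.Quotient.mk I (u : A) =
      φ (MonoidAlgebra.single (Multiplicative.ofAdd (b i)) 1) := by
    intro i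
    obtain ⟨a, ha⟩ := Ideal.Quotient.mk_surjective
      (φ (MonoidAlgebra.single (Multiplicative.ofAdd (b i)) 1))
    have : IsUnit (φ (MonoidAlgebra.single (Multiplicative.ofAdd (b i)) 1)) :=
      ((Group.isUnit _).map (MonoidAlgebra.of R (Multiplicative M))).map φ
    rw [← ha, IsNilpotent.isUnit_quotient_mk_iff ⟨2, hI⟩] at this
    exact ⟨this.unit, by simpa using ha⟩
  choose u hu using hu
  let χ : M →+ Additive Aˣ := (b.constr ℕ fun i => Additive.ofMul (u i)).toAddMonoidHom
  refine ⟨MonoidAlgebra.lift R A _ ((Units.coeHom A).comp χ.toMultiplicativeLeft), ?_⟩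
  let f₁ : Multiplicative M →* A ⧸ I := (((Ideal.Quotient.mkₐ R I).comp
      (MonoidAlgebra.lift R A _ ((Units.coeHom A).comp χ.toMultiplicativeLeft))) :
        MonoidAlgebra R (Multiplicative M) →* A ⧸ I).comp (MonoidAlgebra.of R _)
  let f₂ : Multiplicative M →* A ⧸ I :=
    (φ : MonoidAlgebra R (Multiplicative M) →* A ⧸ I).comp (MonoidAlgebra.of R _)
  have key : (f₁.toHomUnits.toAdditiveRight : M →+ Additive (A ⧸ I)ˣ) =
      f₂.toHomUnits.toAdditiveRight := by
    refine AddMonoidHom.toIntLinearMap_injective (b.ext fun i => ?_)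
    apply Additive.toMul.injective
    refine Units.ext ?_
    simp [f₁, f₂, χ, hu]
  refine MonoidAlgebra.algHom_ext (fun m => ?_) (by ext)
  have := congrArg (fun F : M →+ Additive (A ⧸ I)ˣ => ((F m.toAdd).toMul : A ⧸ I)) key
  simpa [f₁, f₂] using this

theorem smooth_algebra (R : Type u) [CommRing R] [IsNoetherianRing R] [Module.Free ℤ M]
    [Module.Finite ℤ M] : Algebra.Smooth R (MonoidAlgebra R (Multiplicative M)) := by
  have : AddGroup.FG M := Module.Finite.iff_addGroup_fg.1 inferInstance
  have : Monoid.FG (Multiplicative M) := inferInstance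
  have : Algebra.FiniteType R (MonoidAlgebra R (Multiplicative M)) := inferInstance
  exact ⟨formallySmooth R, Algebra.FinitePresentation.of_finiteType.1 this⟩

variable (S) (M)

theorem isAffineHom : IsAffineHom (Red.DS S M).hom :=
  MorphismProperty.of_isPullback (IsPullback.of_hasPullback _ _) (isAffineHom_diag _)

theorem flat : Flat (Red.DS S M).hom := by
  refine MorphismProperty.of_isPullback (IsPullback.of_hasPullback _ _) ?_
  change Flat (Spec.map (CommRingCat.ofHom _))
  rw [HasRingHomProperty.Spec_iff (P := @Flat), CommRingCat.hom_ofHom, RingHom.flat_algebraMap_iff]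
  infer_instance

theorem smooth [Module.Free ℤ M] [Module.Finite ℤ M] : Smooth (Red.DS S M).hom := by
  refine MorphismProperty.of_isPullback (IsPullback.of_hasPullback _ _) ?_
  change Smooth (Spec.map (CommRingCat.ofHom _))
  rw [HasRingHomProperty.Spec_iff (P := @Smooth), CommRingCat.hom_ofHom,
    RingHom.smooth_algebraMap]
  exact @smooth_algebra M _ (ULift.{u} ℤ) _ (isNoetherianRing_of_ringEquiv ℤ ULift.ringEquiv.symm) _ _

theorem locallyOfFinitePresentation [AddGroup.FG M] :
    LocallyOfFinitePresentation (Red.DS S M).hom := by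
  refine MorphismProperty.of_isPullback (IsPullback.of_hasPullback _ _) ?_
  change LocallyOfFinitePresentation (Spec.map (CommRingCat.ofHom _))
  rw [HasRingHomProperty.Spec_iff (P := @LocallyOfFinitePresentation), CommRingCat.hom_ofHom,
    RingHom.finitePresentation_algebraMap]
  have : Algebra.FiniteType (ULift.{u} ℤ) (MonoidAlgebra (ULift.{u} ℤ) (Multiplicative M)) :=
    inferInstance
  exact (@Algebra.FinitePresentation.of_finiteType _ _ _ _ _
    (isNoetherianRing_of_ringEquiv ℤ ULift.ringEquiv.symm)).1 this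

theorem surjective_hom (G : Over S) [GrpObj G] : Surjective G.hom := by
  have h : η[G].left ≫ G.hom = 𝟙 S := Over.w η[G]
  have : Surjective (η[G].left ≫ G.hom) := ⟨fun x => ⟨x, by rw [h]; rfl⟩⟩
  exact Surjective.of_comp η[G].left G.hom

end Groth.Agent.Lib.Tori.DS
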