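import Groth.Agent.Lib.Tori.Basic
import Groth.Agent.Lib.Flat55.FlatDescend
import Groth.Agent.H87.HomDS
import Mathlib.LinearAlgebra.FreeModule.PID
import Mathlib.FieldTheory.RatFunc.AsPolynomial
import Mathlib.FieldTheory.RatFunc.Basic

/-!
# Fibrewise non-trivial characters of tori are faithfully flat
-/

set_option autoImplicit false
set_option linter.style.haveILetI false
universe u

open CategoryTheory MonoidalCategory CartesianMonoidalCategory MonObj GrpObj AlgebraicGeometry
open CategoryTheory.Limits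
open Groth.Agent.Lib.RedPts Groth.Agent.Lib.Tori.BaseChange
open Groth.Agent.H87.Locus (Kills kills_iff_map_eq_one kills_comp kills_congr kills_of_comp)

namespace Groth.Agent.Lib.Tori.Character

theorem faithfullyFlat_mapDomain {R : Type*} [CommRing R] [Nontrivial R] {H N : Type*} [CommGroup H] [CommGroup N]
    (j : H →* N) (hj : Function.Injective j) :
    (MonoidAlgebra.mapDomainRingHom R j).FaithfullyFlat := by
  classical
  algebraize [MonoidAlgebra.mapDomainRingHom R j]
  let e : N ⧸ j.range → MonoidAlgebra R N := fun q => MonoidAlgebra.single q.out 1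
  have hsmul : ∀ (c : MonoidAlgebra R H) (q : N ⧸ j.range),
      c • e q = MonoidAlgebra.mapDomainRingHom R j c * MonoidAlgebra.single q.out 1 := fun _ _ => rfl
  have hli : LinearIndependent (MonoidAlgebra R H) e := by
    rw [linearIndependent_iff]
    intro l hl
    ext q h
    have hc := congrArg (fun z : MonoidAlgebra R N => z.coeff (j h * q.out)) hl
    rw [Finsupp.linearCombination_apply, Finsupp.sum] at hc
    simp only [hsmul, MonoidAlgebra.coeff_sum, Finsupp.finsetSum_apply, MonoidAlgebra.coeff_zero,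
      Finsupp.coe_zero, Pi.zero_apply] at hc
    have key : ∀ (c : MonoidAlgebra R H) (q' : N ⧸ j.range),
        (MonoidAlgebra.mapDomainRingHom R j c * MonoidAlgebra.single q'.out 1).coeff (j h * q.out) =
          if q' = q then c.coeff h else 0 := fun c q' => by
      induction c using MonoidAlgebra.induction_linear with
      | zero => simp
      | add a b ha hb =>
        rw [map_add, add_mul, MonoidAlgebra.coeff_add, Finsupp.add_apply, ha, hb, MonoidAlgebra.coeff_add,
          Finsupp.add_apply]
        split_ifs <;> simp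
      | single g r =>
        rw [MonoidAlgebra.mapDomainRingHom_apply, MonoidAlgebra.mapDomain_single, MonoidAlgebra.single_mul_single,
          _root_.mul_one, MonoidAlgebra.coeff_single, MonoidAlgebra.coeff_single, Finsupp.single_apply,
          Finsupp.single_apply]
        by_cases hq : q' = q
        · subst hq
          simp [hj.eq_iff]
        · rw [if_neg hq, if_neg]
          intro he
          have he' := congrArg (QuotientGroup.mk : N → N ⧸ j.range) he
          rw [QuotientGroup.mk_mul, QuotientGroup.mk_mul, (QuotientGroup.eq_one_iff (j g)).2 (MonoidHom.mem_range.2 ⟨g, rfl⟩),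
            (QuotientGroup.eq_one_iff (j h)).2 (MonoidHom.mem_range.2 ⟨h, rfl⟩), QuotientGroup.out_eq', QuotientGroup.out_eq',
            _root_.one_mul, _root_.one_mul] at he'
          exact hq he'
    simp only [key] at hc
    rw [Finset.sum_ite_eq'] at hc
    simp only [Finsupp.mem_support_iff, ne_eq, ite_not] at hc
    rw [Finsupp.zero_apply, MonoidAlgebra.coeff_zero, Finsupp.zero_apply]
    split_ifs at hc with h0
    · simp [h0]
    · exact hc
  have hsp : ⊤ ≤ Submodule.span (MonoidAlgebra R H) (Set.range e) := fun z _ => by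
    induction z using MonoidAlgebra.induction_linear with
    | zero => exact Submodule.zero_mem _
    | add a b ha hb => exact Submodule.add_mem _ (ha trivial) (hb trivial)
    | single n r =>
      obtain ⟨h, hh⟩ : n * (QuotientGroup.mk n : N ⧸ j.range).out⁻¹ ∈ j.range := by
        rw [← QuotientGroup.eq_one_iff, QuotientGroup.mk_mul, QuotientGroup.mk_inv, QuotientGroup.out_eq',
          mul_inv_cancel]
      have : MonoidAlgebra.single n r = MonoidAlgebra.single h r • e (QuotientGroup.mk n) := by
        rw [hsmul, MonoidAlgebra.mapDomainRingHom_apply, MonoidAlgebra.mapDomain_single,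
          MonoidAlgebra.single_mul_single, _root_.mul_one, hh, inv_mul_cancel_right]
      rw [this]
      exact Submodule.smul_mem _ _ (Submodule.subset_span ⟨_, rfl⟩)
  haveI := Module.Free.of_basis (Module.Basis.mk hli hsp)
  haveI : Nontrivial (MonoidAlgebra R N) := inferInstance
  exact RingHom.faithfullyFlat_algebraMap_iff.2 inferInstance

theorem flat_surjective_chi (S : Scheme.{u}) {M : Type} [AddCommGroup M] (m : M)
    (hm : Function.Injective (zmultiplesHom M m)) :
    Flat (Red.chi S m).left ∧ Surjective (Red.chi S m).left := by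
  have h := faithfullyFlat_mapDomain (R := ULift.{u} ℤ) (AddMonoidHom.toMultiplicative (zmultiplesHom M m))
    (fun a b e => hm e)
  rw [← CommRingCat.hom_ofHom (MonoidAlgebra.mapDomainRingHom (ULift.{u} ℤ)
    (AddMonoidHom.toMultiplicative (zmultiplesHom M m))), ← flat_and_surjective_SpecMap_iff] at h
  exact ⟨MorphismProperty.overPullbackMap (P := @Flat) _ _ h.1,
    MorphismProperty.overPullbackMap (P := @Surjective) _ _ h.2⟩

variable {S : Scheme.{u}} {X Y : Over S}

/-- Flatness and surjectivity may be checked after flat base changes covering the base. -/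
theorem flat_surjective_of_locally (a : X ⟶ Y)
    (h : ∀ s : S, ∃ (V : Scheme.{u}) (g : V ⟶ S), Flat g ∧ s ∈ Set.range g ∧
      Flat ((Over.pullback g).map a).left ∧ Surjective ((Over.pullback g).map a).left) :
    Flat a.left ∧ Surjective a.left := by
  have hsq : ∀ {V : Scheme.{u}} (g : V ⟶ S),
      ((Over.pullback g).map a).left ≫ pullback.fst Y.hom g = pullback.fst X.hom g ≫ a.left :=
    fun g => by simp [pullback.lift_fst]
  constructor
  · refine Flat.iff_flat_stalkMap _ |>.2 fun x => ?_
    obtain ⟨V, g, hg, hs, hf, -⟩ := h (X.hom x)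
    obtain ⟨y, rfl⟩ : x ∈ Set.range (pullback.fst X.hom g) := by
      rw [Scheme.Pullback.range_fst]; exact hs
    refine Flat55.FlatDescend.flat_stalkMap_of_comp (pullback.fst X.hom g) a.left y (Flat.stalkMap _ y) ?_
    have : Flat (pullback.fst X.hom g ≫ a.left) := by rw [← hsq]; infer_instance
    exact Flat.stalkMap _ y
  · refine ⟨fun z => ?_⟩
    obtain ⟨V, g, hg, hs, -, hsu⟩ := h (Y.hom z)
    obtain ⟨y, rfl⟩ : z ∈ Set.range (pullback.fst Y.hom g) := by
      rw [Scheme.Pullback.range_fst]; exact hs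
    obtain ⟨w, rfl⟩ := ((Over.pullback g).map a).left.surjective y
    exact ⟨pullback.fst X.hom g w, by
      rw [← Scheme.Hom.comp_apply, ← hsq, Scheme.Hom.comp_apply]⟩

theorem isMultTypeFT_DS (V : Scheme.{u}) (M : Type) [AddCommGroup M] [AddGroup.FG M] :
    SGA3x.IsMultTypeFT (Red.DS V M) :=
  ⟨V, 𝟙 V, inferInstance, ⟨fun x => ⟨x, rfl⟩⟩, fun W hW => ⟨W, hW.isCompact, by simp⟩,
    fun s => ⟨⊤, trivial, M, inferInstance, inferInstance, ⟨DS.dsBC M _⟩⟩⟩

variable {T : Over S} [GrpObj T] (α : T ⟶ Red.Gm S)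

theorem not_kills_of_geomFibres (hα : ∀ s : S, (Over.pullback (Red.geomPt s)).map α ≠ 1)
    (S' : Scheme.{u}) (g : S' ⟶ S) (hne : Nonempty ↥S') : ¬ Kills α g := by
  intro hk
  obtain ⟨s'⟩ := hne
  let s := g s'
  let L := AlgebraicClosure (S'.residueField s')
  let K := AlgebraicClosure (S.residueField s)
  let i : S.residueField s →+* L :=
    (algebraMap (S'.residueField s') L).comp (g.residueFieldMap s').hom
  letI : Algebra (S.residueField s) L := i.toAlgebra
  let σ : K →ₐ[S.residueField s] L := IsAlgClosed.lift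
  let q : Spec (CommRingCat.of L) ⟶ Spec (CommRingCat.of K) := Spec.map (CommRingCat.ofHom σ.toRingHom)
  have hq : q ≫ Red.geomPt s =
      (Spec.map (CommRingCat.ofHom (algebraMap (S'.residueField s') L)) ≫ S'.fromSpecResidueField s') ≫ g := by
    rw [Category.assoc, ← Scheme.Hom.SpecMap_residueFieldMap_fromSpecResidueField, Red.geomPt,
      ← Category.assoc, ← Category.assoc, ← Spec.map_comp, ← Spec.map_comp]
    congr 2
    exact CommRingCat.hom_ext σ.comp_algebraMap
  have : Flat q := by
    letI := σ.toRingHom.toAlgebra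
    rw [HasRingHomProperty.Spec_iff (P := @Flat)]
    exact RingHom.flat_algebraMap_iff.2 (inferInstanceAs (Module.Flat K L))
  have : Surjective q := ⟨Function.surjective_to_subsingleton
    (α := PrimeSpectrum L) (β := PrimeSpectrum K) _⟩
  exact hα s ((kills_iff_map_eq_one α _).1 (kills_of_comp α q
    (kills_congr α hq.symm (kills_comp α _ hk))))

omit [GrpObj T] in
theorem not_kills_of_surjective [Surjective α.left] (S' : Scheme.{u}) (g : S' ⟶ S)
    (hne : Nonempty ↥S') : ¬ Kills α g := by
  intro hk
  obtain ⟨s'⟩ := hne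
  let R := RatFunc (S'.residueField s')
  let g₁ : Spec (CommRingCat.of R) ⟶ S :=
    Spec.map (CommRingCat.ofHom (algebraMap (S'.residueField s') R)) ≫ S'.fromSpecResidueField s' ≫ g
  let X₁ : Over S := Over.mk g₁
  have hX : IsUnit ((Scheme.ΓSpecIso (CommRingCat.of R)).inv (RatFunc.X : R)) :=
    (isUnit_iff_ne_zero.2 RatFunc.X_ne_zero).map (Scheme.ΓSpecIso (CommRingCat.of R)).inv.hom
  obtain ⟨z, hz⟩ := Gm.exists_gmFn_eq (X := X₁) hX
  let P := pullback α.left z.left
  obtain ⟨p⟩ : Nonempty ↥P := by
    obtain ⟨t, ht⟩ := α.left.surjective (z.left (IsLocalRing.closedPoint R))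
    obtain ⟨p, -, -⟩ := Scheme.Pullback.exists_preimage_pullback (f := α.left) (g := z.left) t _ ht
    exact ⟨p⟩
  let c : Spec (P.residueField p) ⟶ Spec (CommRingCat.of R) := P.fromSpecResidueField p ≫ pullback.snd _ _
  let Y₁ : Over S := Over.mk (c ≫ g₁)
  let cY : Y₁ ⟶ X₁ := Over.homMk c rfl
  let t₁ : Y₁ ⟶ T := Over.homMk (P.fromSpecResidueField p ≫ pullback.fst _ _) (by
    change (_ ≫ pullback.fst _ _) ≫ T.hom = (P.fromSpecResidueField p ≫ pullback.snd _ _) ≫ g₁
    rw [Category.assoc, Category.assoc]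
    congr 1
    rw [← Over.w α, ← Category.assoc, pullback.condition, Category.assoc, Over.w z]
    rfl)
  have ht : t₁ ≫ α = cY ≫ z := by
    ext
    change (_ ≫ pullback.fst _ _) ≫ α.left = (P.fromSpecResidueField p ≫ pullback.snd _ _) ≫ z.left
    rw [Category.assoc, Category.assoc, pullback.condition]
  have h1 : cY ≫ z = 1 := ht ▸ hk Y₁ (cY ≫ Over.homMk (Spec.map (CommRingCat.ofHom
    (algebraMap (S'.residueField s') R)) ≫ S'.fromSpecResidueField s') (Category.assoc _ _ _)) t₁
  have h2 := congrArg Red.gmFn h1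
  rw [Gm.gmFn_comp, hz, Gm.gmFn_one] at h2
  have h3 : (Spec.preimage c).hom (RatFunc.X : R) = 1 := by
    have h4 : c.appTop ((Scheme.ΓSpecIso (CommRingCat.of R)).inv (RatFunc.X : R)) = 1 := h2
    rw [← Spec.map_preimage c, ← CommRingCat.comp_apply, ← Scheme.ΓSpecIso_inv_naturality,
      CommRingCat.comp_apply] at h4
    have := congrArg (Scheme.ΓSpecIso _).hom h4
    simpa using this
  have h5 : (RatFunc.X : R) = 1 :=
    (Spec.preimage c).hom.injective (h3.trans (map_one _).symm)
  rw [← RatFunc.algebraMap_X, ← map_one (algebraMap (Polynomial (S'.residueField s')) R)] at h5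
  exact Polynomial.X_ne_C 1 ((RatFunc.algebraMap_injective _ h5).trans Polynomial.C_1.symm)

theorem flat_surjective_of_geomFibres (hT : Red.IsTorus T) [IsMonHom α]
    (hα : ∀ s : S, (Over.pullback (Red.geomPt s)).map α ≠ 1) :
    Flat α.left ∧ Surjective α.left := by
  obtain ⟨S', f, hf, hs, -, hloc⟩ := hT
  refine flat_surjective_of_locally α fun s => ?_
  obtain ⟨s', rfl⟩ := f.surjective s
  obtain ⟨U, hU, r, ⟨e⟩⟩ := hloc s'
  refine ⟨U, U.ι ≫ f, inferInstance, ⟨⟨s', hU⟩, rfl⟩, ?_⟩
  let g := U.ι ≫ f
  let α' : Red.DS (U : Scheme.{u}) (Fin r → ℤ) ⟶ Red.Gm (U : Scheme.{u}) :=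
    (overIso e).inv ≫ (Over.pullback g).map α ≫ (overIso (DS.dsBC ℤ g)).hom
  have : IsMonHom (overIso e).inv := inferInstanceAs (IsMonHom (overIso e.symm).hom)
  have : IsMonHom α' := inferInstance
  have hk : ∀ (V : Scheme.{u}) (j : V ⟶ (U : Scheme.{u})), Nonempty ↥V → ¬ Kills α' j := by
    intro V j hV hk
    refine not_kills_of_geomFibres α hα V (j ≫ g) hV fun Y p γ => ?_
    let Y' : Over (U : Scheme.{u}) := Over.mk (p.left ≫ j)
    let φ : (Over.map g).obj Y' ≅ Y := Over.isoMk (Iso.refl _)
      ((Category.id_comp _).trans ((Over.w p).symm.trans (Category.assoc _ _ _).symm))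
    have h1 := hk Y' (Over.homMk p.left rfl) (BC.up g (φ.hom ≫ γ) ≫ (overIso e).hom)
    simp only [α', Category.assoc, Iso.hom_inv_id_assoc] at h1
    have : IsMonHom (overIso (DS.dsBC ℤ g)).inv :=
      inferInstanceAs (IsMonHom (overIso (DS.dsBC ℤ g).symm).hom)
    rw [← Category.assoc] at h1
    have h1' := h1 =≫ (overIso (DS.dsBC ℤ g)).inv
    rw [Category.assoc, Iso.hom_inv_id, Category.comp_id] at h1'
    replace h1 := h1'.trans (MonObj.one_comp (overIso (DS.dsBC ℤ g)).inv)
    have h2 := congrArg (BC.down g) h1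
    rw [BC.down_map, BC.down_up, BC.down_one] at h2
    rw [← cancel_epi φ.hom, MonObj.comp_one, ← Category.assoc]
    exact h2
  have h : Flat α'.left ∧ Surjective α'.left := by
    refine flat_surjective_of_locally α' fun v => ?_
    obtain ⟨φ, W, hv, -, hW⟩ := H87.HomDS.exists_local_form (isMultTypeFT_DS _ (Fin r → ℤ)) α' v
    refine ⟨W, W.ι, inferInstance, ⟨⟨v, hv⟩, rfl⟩, ?_⟩
    have hφ : φ 1 ≠ 0 := fun h0 => hk W W.ι ⟨⟨v, hv⟩⟩ fun Y p γ => by
      rw [hW Y p γ]
      apply Gm.dsFn_ext
      intro n
      rw [Gm.dsFn_DSmap, Gm.dsFn_one, show φ n = n • φ 1 by rw [← map_zsmul, smul_eq_mul, _root_.mul_one], h0, smul_zero, Gm.dsFn_zero]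
    have hzm : zmultiplesHom _ (φ 1) = φ := (zmultiplesHom _).apply_symm_apply φ
    have hinj : Function.Injective (zmultiplesHom (Fin r → ℤ) (φ 1)) := fun a b hab => by
      obtain ⟨i, hi⟩ := Function.ne_iff.1 hφ
      simp only [Pi.zero_apply] at hi
      have := congrFun hab i
      simpa [hi] using this
    have heq : (Over.pullback W.ι).map α' = (Over.pullback W.ι).map (Red.chi (U : Scheme.{u}) (φ 1)) := by
      apply BC.down_injective
      rw [← Category.id_comp ((Over.pullback W.ι).map α'),
        ← Category.id_comp ((Over.pullback W.ι).map (Red.chi _ (φ 1)))]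
      erw [BC.down_map, BC.down_map]
      rw [Red.chi, hzm]
      exact hW _ (Over.homMk (Red.bc W.ι (Red.DS (U : Scheme.{u}) (Fin r → ℤ))).hom) _
    obtain ⟨hcf, hcs⟩ := flat_surjective_chi (U : Scheme.{u}) (φ 1) hinj
    rw [heq]
    exact ⟨MorphismProperty.overPullbackMap (P := @Flat) _ _ hcf,
      MorphismProperty.overPullbackMap (P := @Surjective) _ _ hcs⟩
  have hα' : ((Over.pullback g).map α).left =
      (overIso e).hom.left ≫ α'.left ≫ (overIso (DS.dsBC ℤ g)).inv.left := by
    simp only [← Over.comp_left, α', Category.assoc, Iso.hom_inv_id_assoc, Iso.hom_inv_id, Category.comp_id]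
  have := h.1
  have := h.2
  have : IsIso (overIso e).hom.left := inferInstanceAs (IsIso ((Over.forget _).map (overIso e).hom))
  have : IsIso (overIso (DS.dsBC ℤ g)).inv.left :=
    inferInstanceAs (IsIso ((Over.forget _).map (overIso (DS.dsBC ℤ g)).inv))
  rw [hα']
  exact ⟨inferInstance, inferInstance⟩

omit [GrpObj T] in
/-- Points of `𝔾ₘ` lift to the torus after an fppf cover. -/
theorem exists_lift [Flat α.left] [Surjective α.left] {X : Over S} (z : X ⟶ Red.Gm S) :
    ∃ (X' : Over S) (c : X' ⟶ X) (t : X' ⟶ T), Epi c.left ∧ Surjective c.left ∧ t ≫ α = c ≫ z := by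
  let c := pullback.snd α.left z.left
  refine ⟨Over.mk (c ≫ X.hom), Over.homMk c, Over.homMk (pullback.fst α.left z.left) ?_,
    Flat.epi_of_flat_of_surjective c, (inferInstance : Surjective c), ?_⟩
  · change pullback.fst _ _ ≫ T.hom = c ≫ X.hom
    rw [← Over.w α, pullback.condition_assoc, Over.w z]
  · ext; exact pullback.condition

end Groth.Agent.Lib.Tori.Character
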